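import Groth.Prelude.Def_Found
import Groth.Agent.Lib.N2.Reduced
import Groth.Agent.Lib.GeomRed2.Basic
import Mathlib

/-!
# The Nagata property descends along extensions of DVRs with separable fraction field extension
-/

set_option autoImplicit false

universe u

open scoped TensorProduct

namespace Groth.Agent.NagataDesc4

theorem finite_integralClosure (A B K L K' : Type u) [CommRing A] [IsDomain A] [IsDiscreteValuationRing A]
    [CommRing B] [IsDomain B] [IsDiscreteValuationRing B] [Algebra A B] [IsLocalHom (algebraMap A B)]
    (hinj : Function.Injective (algebraMap A B))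
    [Field K] [Field L] [Algebra A K] [IsFractionRing A K] [Algebra B L] [IsFractionRing B L]
    [Algebra K L] [Algebra A L] [IsScalarTower A K L] [IsScalarTower A B L] [Algebra.IsSeparable K L]
    (hB : CAlg.IsNagata B)
    [Field K'] [Algebra K K'] [Algebra A K'] [IsScalarTower A K K'] [FiniteDimensional K K'] :
    Module.Finite A (integralClosure A K') := by
  haveI := hB.1
  haveI : FaithfulSMul A B := (faithfulSMul_iff_algebraMap_injective A B).mpr hinj
  haveI : Module.IsTorsionFree A B :=
    Module.isTorsionFree_iff_algebraMap_injective.mpr hinj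
  haveI : Module.Flat A B := inferInstance
  haveI : Module.FaithfullyFlat A B := Module.FaithfullyFlat.of_flat_of_isLocalHom
  haveI : Algebra.IsAlgebraic K K' := Algebra.IsAlgebraic.of_finite K K'
  haveI : IsReduced (L ⊗[K] K') := by
    haveI : Algebra.IsGeometricallyReduced K L := GrothLib.GeomRed2.isGeometricallyReduced_of_isSeparable
    exact isReduced_of_injective (Algebra.TensorProduct.comm K L K') (AlgEquiv.injective _)
  let T := L ⊗[K] K'
  haveI : IsScalarTower A B T := IsScalarTower.of_algebraMap_eq fun a => by
    show algebraMap A L a ⊗ₜ[K] (1 : K') = algebraMap B L (algebraMap A B a) ⊗ₜ[K] (1 : K')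
    rw [IsScalarTower.algebraMap_apply A B L]
  haveI : Algebra.EssFiniteType B L := Algebra.EssFiniteType.of_isLocalization L (nonZeroDivisors B)
  haveI : Algebra.EssFiniteType L T := inferInstance
  haveI : Algebra.EssFiniteType B T := Algebra.EssFiniteType.comp B L T
  haveI : Module.Finite B (integralClosure B T) := GrothLib.N2.finite_integralClosure_of_essFiniteType hB T
  let C := integralClosure A K'
  let κ : K' →ₐ[A] T := (Algebra.TensorProduct.includeRight : K' →ₐ[K] T).restrictScalars A
  let ψ : B ⊗[A] C →ₐ[B] T :=
    Algebra.TensorProduct.lift (Algebra.ofId B T) (κ.comp C.val) fun _ _ => Commute.all _ _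
  have hψint : ∀ z, ψ z ∈ integralClosure B T := by
    intro z
    induction z with
    | zero => simp
    | tmul b c =>
      rw [Algebra.TensorProduct.lift_tmul]
      refine mul_mem (Subalgebra.algebraMap_mem _ b) ?_
      exact IsIntegral.tower_top (c.2.map κ)
    | add x y hx hy => rw [map_add]; exact add_mem hx hy
  have hψinj : Function.Injective ψ := by
    haveI : Module.IsTorsionFree A C := by
      refine Module.isTorsionFree_iff_algebraMap_injective.mpr ?_
      intro a b hab
      have := congrArg (fun c : C => (c : K')) hab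
      change algebraMap A K' a = algebraMap A K' b at this
      rw [IsScalarTower.algebraMap_apply A K K', IsScalarTower.algebraMap_apply A K K'] at this
      exact IsFractionRing.injective A K ((algebraMap K K').injective this)
    haveI : Module.IsTorsionFree A L := by
      refine Module.isTorsionFree_iff_algebraMap_injective.mpr ?_
      rw [IsScalarTower.algebraMap_eq A B L]
      exact (IsFractionRing.injective B L).comp hinj
    let f1 : B ⊗[A] C →ₗ[A] L ⊗[A] C := (IsScalarTower.toAlgHom A B L).toLinearMap.rTensor C
    let f2 : L ⊗[A] C →ₗ[A] L ⊗[A] K' := C.val.toLinearMap.lTensor L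
    haveI : TensorProduct.CompatibleSMul A K L K' :=
      IsLocalization.tensorProduct_compatibleSMul (nonZeroDivisors A) K L K'
    let f3 : L ⊗[A] K' →ₗ[A] T :=
      ((TensorProduct.equivOfCompatibleSMul A K K L K').symm.toLinearMap).restrictScalars A
    have h1 : Function.Injective f1 :=
      Module.Flat.rTensor_preserves_injective_linearMap _ (IsFractionRing.injective B L)
    have h2 : Function.Injective f2 :=
      Module.Flat.lTensor_preserves_injective_linearMap _ Subtype.val_injective
    have h3 : Function.Injective f3 := LinearEquiv.injective _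
    have heq : ψ.toLinearMap.restrictScalars A = f3 ∘ₗ f2 ∘ₗ f1 := by
      refine TensorProduct.ext' fun b c => ?_
      show ψ (b ⊗ₜ[A] c) = _
      rw [Algebra.TensorProduct.lift_tmul]
      show algebraMap B L b ⊗ₜ[K] (1 : K') * ((1 : L) ⊗ₜ[K] (c : K')) = algebraMap B L b ⊗ₜ[K] (c : K')
      rw [Algebra.TensorProduct.tmul_mul_tmul, mul_one, one_mul]
    intro x y hxy
    exact h1 (h2 (h3 (by
      have hh := LinearMap.congr_fun heq
      simp only [LinearMap.restrictScalars_apply, AlgHom.toLinearMap_apply, LinearMap.comp_apply] at hh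
      rw [← hh, ← hh, hxy])))
  haveI : Module.Finite B (B ⊗[A] C) :=
    Module.Finite.of_injective ((ψ.codRestrict _ hψint).toLinearMap)
      fun x y h => hψinj (congrArg Subtype.val h)
  exact Module.Finite.of_finite_tensorProduct_of_faithfullyFlat B

theorem isNagata (A B K L : Type u) [CommRing A] [IsDomain A] [IsDiscreteValuationRing A]
    [CommRing B] [IsDomain B] [IsDiscreteValuationRing B] [Algebra A B] [IsLocalHom (algebraMap A B)]
    (hinj : Function.Injective (algebraMap A B))
    [Field K] [Field L] [Algebra A K] [IsFractionRing A K] [Algebra B L] [IsFractionRing B L]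
    [Algebra K L] [Algebra A L] [IsScalarTower A K L] [IsScalarTower A B L] [Algebra.IsSeparable K L]
    (hB : CAlg.IsNagata B) : CAlg.IsNagata A := by
  refine ⟨inferInstance, fun p hp => ?_⟩
  intro M _ _ _ _ hM
  rcases eq_or_ne p ⊥ with rfl | hne
  · let e : A ≃+* A ⧸ (⊥ : Ideal A) := (RingEquiv.quotientBot A).symm
    let eK : K ≃+* FractionRing (A ⧸ (⊥ : Ideal A)) := IsFractionRing.ringEquivOfRingEquiv e
    letI : Algebra K M := ((algebraMap (FractionRing (A ⧸ (⊥ : Ideal A))) M).comp eK.toRingHom).toAlgebra
    letI : Algebra A M := Algebra.compHom M (algebraMap A (A ⧸ (⊥ : Ideal A)))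
    haveI : IsScalarTower A (A ⧸ (⊥ : Ideal A)) M := IsScalarTower.of_algebraMap_eq fun a => rfl
    haveI : IsScalarTower A K M := IsScalarTower.of_algebraMap_eq fun a => by
      show algebraMap (A ⧸ (⊥ : Ideal A)) M (Ideal.Quotient.mk ⊥ a) =
        algebraMap (FractionRing (A ⧸ (⊥ : Ideal A))) M (eK (algebraMap A K a))
      rw [IsFractionRing.ringEquivOfRingEquiv_algebraMap,
        ← IsScalarTower.algebraMap_apply (A ⧸ (⊥ : Ideal A)) (FractionRing (A ⧸ (⊥ : Ideal A))) M]
      rfl
    haveI : FiniteDimensional K M := by
      haveI := hM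
      refine Module.Finite.of_equiv_equiv eK.symm (RingEquiv.refl M) ?_
      ext z
      show algebraMap (FractionRing (A ⧸ (⊥ : Ideal A))) M (eK (eK.symm z)) = _
      rw [RingEquiv.apply_symm_apply]
      rfl
    haveI := finite_integralClosure A B K L M hinj hB
    let ι : integralClosure A M →ₗ[A] integralClosure (A ⧸ (⊥ : Ideal A)) M :=
      { toFun := fun x => ⟨x.1, IsIntegral.tower_top x.2⟩
        map_add' := fun _ _ => rfl
        map_smul' := fun c x => Subtype.ext rfl }
    haveI : Module.Finite A (integralClosure (A ⧸ (⊥ : Ideal A)) M) :=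
      Module.Finite.of_surjective ι fun y => ⟨⟨y.1, isIntegral_trans (R := A) y.1 y.2⟩, Subtype.ext rfl⟩
    exact Module.Finite.of_restrictScalars_finite A _ _
  · haveI : p.IsMaximal := hp.isMaximal hne
    letI : Field (A ⧸ p) := Ideal.Quotient.field p
    haveI := hM
    haveI : Module.Finite (A ⧸ p) (FractionRing (A ⧸ p)) :=
      Module.Finite.of_surjective (Algebra.linearMap (A ⧸ p) (FractionRing (A ⧸ p)))
        (IsFractionRing.surjective_iff_isField.mpr (Field.toIsField _))
    haveI : Module.Finite (A ⧸ p) M := Module.Finite.trans (FractionRing (A ⧸ p)) M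
    exact Module.Finite.of_injective (integralClosure (A ⧸ p) M).val.toLinearMap Subtype.val_injective

end Groth.Agent.NagataDesc4
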